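import Mathlib
import Groth.Prelude.Def_W4c6puncthilbintroLift
import Groth.Agent.H4Easy.Batch2

/-!
# First order liftings of an ideal
-/

set_option autoImplicit false
universe u

open TrivSqZeroExt TensorProduct

attribute [local instance] W4c6puncthilbintro.dualAlgebra

namespace Groth.Agent.DualLift

section Abstract

variable {A B P R : Type u} [CommRing A] [CommRing B] [CommRing P] [CommRing R] [Algebra A B] [Algebra B P]
  [Algebra A P] [IsScalarTower A B P] [Algebra A R]

theorem smul_mk (J : Ideal P) (b : B) (x : P) :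
    b • Ideal.Quotient.mk J x = Ideal.Quotient.mk J (algebraMap B P b * x) := by
  rw [Algebra.smul_def, Ideal.Quotient.mk_algebraMap B J b |>.symm, ← map_mul]

/-- Flatness over a square-zero extension `B` of `A` by a principal ideal. -/
theorem flat_of_sqZero (e : B) (he : e * e = 0)
    (hbij : Function.Bijective (algebraMap A (B ⧸ Ideal.span {e})))
    (q : P →ₐ[A] R) (hq : Function.Surjective q)
    (hker : ∀ x, q x = 0 ↔ algebraMap B P e ∣ x)
    (I : Ideal R) (J : Ideal P) (hI : Ideal.map q J = I) [Module.Flat A (R ⧸ I)]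
    (hεx : ∀ x : P, algebraMap B P e * x ∈ J → q x ∈ I) :
    Module.Flat B (P ⧸ J) := by
  let E : Ideal B := Ideal.span {e}
  have hE : IsNilpotent E := ⟨2, by
    rw [pow_two, Ideal.span_singleton_mul_span_singleton, he, Ideal.span_singleton_eq_bot.mpr rfl]
    rfl⟩
  let M := P ⧸ J
  have hle : J ≤ I.comap q := Ideal.map_le_iff_le_comap.mp hI.le
  have hmem : ∀ r ∈ I, ∃ x ∈ J, q x = r := fun r hr =>
    (Ideal.mem_map_iff_of_surjective q hq).mp (hI.ge hr)
  rw [H4Easy.flat_iff_nilpotent B E hE M]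
  constructor
  · let g : M →ₗ[A] R ⧸ I := (Ideal.quotientMapₐ I q hle).toLinearMap
    have hg : ∀ x : P, g (Ideal.Quotient.mk J x) = Ideal.Quotient.mk I (q x) := fun x => rfl
    let S : Submodule B M := E • ⊤
    have hSeps : ∀ y : P, Ideal.Quotient.mk J (algebraMap B P e * y) ∈ S := fun y => by
      rw [← smul_mk]
      exact Submodule.smul_mem_smul (Ideal.mem_span_singleton_self e) trivial
    have hS : LinearMap.ker g = S.restrictScalars A := by
      apply le_antisymm
      · intro m hm
        obtain ⟨x, rfl⟩ := Ideal.Quotient.mk_surjective m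
        rw [LinearMap.mem_ker, hg, Ideal.Quotient.eq_zero_iff_mem] at hm
        obtain ⟨y, hy, hxy⟩ := hmem _ hm
        obtain ⟨c, hc⟩ := (hker (x - y)).mp (by rw [map_sub, hxy, sub_self])
        have : Ideal.Quotient.mk J x = Ideal.Quotient.mk J (algebraMap B P e * c) := by
          rw [Ideal.Quotient.eq, ← hc, sub_sub_cancel]
          exact hy
        rw [this]
        exact hSeps c
      · intro m hm
        change g m = 0
        refine Submodule.smul_induction_on (show m ∈ S from hm) (fun b hb n _ => ?_) (fun a b ha hb => by rw [map_add, ha, hb, add_zero])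
        obtain ⟨c, rfl⟩ := Ideal.mem_span_singleton.mp hb
        obtain ⟨x, rfl⟩ := Ideal.Quotient.mk_surjective n
        rw [smul_mk, hg, map_mul (algebraMap B P), mul_assoc, map_mul q, (hker _).mpr (dvd_refl _), zero_mul, map_zero]
    have hsurj : Function.Surjective g := fun r => by
      obtain ⟨r, rfl⟩ := Ideal.Quotient.mk_surjective r
      obtain ⟨x, rfl⟩ := hq r
      exact ⟨Ideal.Quotient.mk J x, hg x⟩
    let u : ((B ⧸ E) ⊗[B] M) ≃ₗ[A] R ⧸ I :=
      ((TensorProduct.quotTensorEquivQuotSMul M E).restrictScalars A).trans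
        ((Submodule.Quotient.restrictScalarsEquiv A S).symm.trans
          ((Submodule.quotEquivOfEq _ _ hS.symm).trans (g.quotKerEquivOfSurjective hsurj)))
    haveI : Module.Flat A ((B ⧸ E) ⊗[B] M) := Module.Flat.of_linearEquiv u
    haveI : IsLocalization.Away (1 : A) (B ⧸ E) :=
      IsLocalization.away_of_isUnit_of_bijective _ isUnit_one hbij
    exact (Module.flat_iff_of_isLocalization (B ⧸ E) (Submonoid.powers (1 : A))
      ((B ⧸ E) ⊗[B] M)).mpr ‹_›
  · let eE : E := ⟨e, Ideal.mem_span_singleton_self e⟩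
    have hgen : ∀ z : E ⊗[B] M, ∃ m : M, z = eE ⊗ₜ m := by
      intro z
      induction z using TensorProduct.induction_on with
      | zero => exact ⟨0, by simp⟩
      | tmul a m =>
        obtain ⟨c, hc⟩ := Ideal.mem_span_singleton.mp a.2
        refine ⟨c • m, ?_⟩
        rw [← TensorProduct.smul_tmul]
        congr 1
        exact Subtype.ext (by rw [hc]; simp [eE, mul_comm])
      | add a b ha hb =>
        obtain ⟨m, rfl⟩ := ha
        obtain ⟨n, rfl⟩ := hb
        exact ⟨m + n, (TensorProduct.tmul_add _ _ _).symm⟩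
    rw [injective_iff_map_eq_zero]
    intro z hz
    obtain ⟨m, rfl⟩ := hgen z
    obtain ⟨x, rfl⟩ := Ideal.Quotient.mk_surjective m
    have h1 : algebraMap B P e * x ∈ J := by
      have := congrArg (TensorProduct.lid B M) hz
      rw [map_zero, LinearMap.rTensor_tmul, TensorProduct.lid_tmul] at this
      rw [← Ideal.Quotient.eq_zero_iff_mem]
      rwa [Submodule.subtype_apply, smul_mk] at this
    obtain ⟨y, hy, hxy⟩ := hmem _ (hεx x h1)
    obtain ⟨c, hc⟩ := (hker (x - y)).mp (by rw [map_sub, hxy, sub_self])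
    have h2 : Ideal.Quotient.mk J x = e • Ideal.Quotient.mk J c := by
      rw [smul_mk, Ideal.Quotient.eq, ← hc, sub_sub_cancel]
      exact hy
    rw [h2, ← TensorProduct.smul_tmul, show e • eE = 0 from Subtype.ext he, TensorProduct.zero_tmul]

omit [Algebra A B] [Algebra A P] [IsScalarTower A B P] [Algebra A R] in
/-- Over a flat quotient, the annihilator of `e` consists of multiples of `e`. -/
theorem exists_div_of_flat (e : B) (he : e * e = 0) (hann : ∀ b, e * b = 0 → e ∣ b)
    (J : Ideal P) [Module.Flat B (P ⧸ J)] (x : P) (hx : algebraMap B P e * x ∈ J) :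
    ∃ y : P, x - algebraMap B P e * y ∈ J := by
  let μ : B →ₗ[B] B := LinearMap.mulLeft B e
  have hμ : Function.Exact μ μ := fun y =>
    ⟨fun hy => (hann y hy).elim fun c hc => ⟨c, hc.symm⟩, by
      rintro ⟨c, rfl⟩
      change e * (e * c) = 0
      rw [← mul_assoc, he, zero_mul]⟩
  let m := Ideal.Quotient.mk J x
  have hex := (Module.Flat.lTensor_exact (M := P ⧸ J) hμ) (m ⊗ₜ 1)
  have hμ1 : ∀ w, TensorProduct.rid B (P ⧸ J) (LinearMap.lTensor _ μ w) =
      e • TensorProduct.rid B (P ⧸ J) w := fun w => by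
    induction w using TensorProduct.induction_on with
    | zero => simp
    | tmul a b => simp [μ, mul_smul]
    | add a b ha hb => simp only [map_add, ha, hb, smul_add]
  obtain ⟨w, hw⟩ := hex.mp ((TensorProduct.rid B _).injective (by
    rw [map_zero, hμ1, TensorProduct.rid_tmul, one_smul, smul_mk, Ideal.Quotient.eq_zero_iff_mem]
    exact hx))
  obtain ⟨y, hy⟩ := Ideal.Quotient.mk_surjective (TensorProduct.rid B (P ⧸ J) w)
  refine ⟨y, ?_⟩
  rw [← Ideal.Quotient.eq, ← smul_mk, hy, ← hμ1, hw, TensorProduct.rid_tmul, one_smul]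

end Abstract

variable (A : Type u) [CommRing A] (R : Type u) [CommRing R] [Algebra A R]

theorem tower : IsScalarTower A (DualNumber A) (DualNumber R) :=
  IsScalarTower.of_algebraMap_eq fun a => ((W4c6puncthilbintro.dualMap A R).commutes a).symm

theorem algebraMap_eps : algebraMap (DualNumber A) (DualNumber R) DualNumber.eps = DualNumber.eps :=
  W4c6puncthilbintro.dualMap_eps A R

/-- The kernel of `ε ↦ 0` is generated by `ε`. -/
theorem mem_span_eps {R : Type u} [CommRing R] {x : DualNumber R} :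
    x ∈ Ideal.span {(DualNumber.eps : DualNumber R)} ↔ x.fst = 0 := by
  rw [Ideal.mem_span_singleton]
  constructor
  · rintro ⟨c, rfl⟩
    simp
  · intro h
    exact ⟨inl x.snd, TrivSqZeroExt.ext (by simp [h]) (by simp)⟩

theorem eps_mul (x : DualNumber R) : DualNumber.eps * x = inr x.fst :=
  TrivSqZeroExt.ext (by simp) (by simp)

variable {R}

theorem fst_surjective : Function.Surjective (fstHom A R R) := fun r => ⟨inl r, rfl⟩

theorem liftIdeal_le (I : Ideal R) (φ : I →ₗ[R] R ⧸ I) :
    Ideal.map (fstHom A R R) (W4c6puncthilbintro.liftIdeal I φ) = I := by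
  refine le_antisymm (Ideal.map_le_iff_le_comap.mpr fun x hx => hx.1) fun r hr => ?_
  obtain ⟨b, hb⟩ := Ideal.Quotient.mk_surjective (φ ⟨r, hr⟩)
  exact (Ideal.mem_map_iff_of_surjective (fstHom A R R) (fst_surjective A)).mpr
    ⟨inl r + inr b, ⟨by simpa using hr, by
      have : (⟨(inl r + inr b : DualNumber R).fst, by simpa using hr⟩ : I) = ⟨r, hr⟩ := Subtype.ext (by simp)
      rw [this, ← hb]; simp⟩, by simp⟩

theorem liftIdeal_injective (I : Ideal R) : Function.Injective (W4c6puncthilbintro.liftIdeal I) := by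
  intro φ ψ h
  ext ⟨r, hr⟩
  obtain ⟨b, hb⟩ := Ideal.Quotient.mk_surjective (φ ⟨r, hr⟩)
  have hr' : ((inl r + inr b : DualNumber R)).fst ∈ I := by simpa using hr
  have heq : (⟨_, hr'⟩ : I) = ⟨r, hr⟩ := Subtype.ext (by simp)
  have hsnd : (inl r + inr b : DualNumber R).snd = b := by simp
  have hx : (inl r + inr b : DualNumber R) ∈ W4c6puncthilbintro.liftIdeal I φ :=
    ⟨hr', by rw [hsnd, heq, hb]⟩
  rw [h] at hx
  obtain ⟨hr'', hx⟩ := hx
  rw [hsnd, heq] at hx
  rw [← hb, hx]

theorem flat_liftIdeal (I : Ideal R) [Module.Flat A (R ⧸ I)] (φ : I →ₗ[R] R ⧸ I) :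
    Module.Flat (DualNumber A) (DualNumber R ⧸ W4c6puncthilbintro.liftIdeal I φ) := by
  haveI := tower A R
  refine flat_of_sqZero (B := DualNumber A) DualNumber.eps DualNumber.eps_mul_eps ?_
    (fstHom A R R) (fst_surjective A) (fun x => ?_) I _ (liftIdeal_le A I φ) fun x hx => ?_
  · constructor
    · rw [injective_iff_map_eq_zero]
      intro a ha
      rw [IsScalarTower.algebraMap_apply A (DualNumber A), Ideal.Quotient.algebraMap_eq,
        Ideal.Quotient.eq_zero_iff_mem] at ha
      simpa [TrivSqZeroExt.algebraMap_eq_inl] using mem_span_eps.mp ha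
    · intro b
      obtain ⟨x, rfl⟩ := Ideal.Quotient.mk_surjective b
      refine ⟨x.fst, ?_⟩
      rw [IsScalarTower.algebraMap_apply A (DualNumber A), Ideal.Quotient.algebraMap_eq, Ideal.Quotient.eq]
      exact mem_span_eps.mpr (by simp [TrivSqZeroExt.algebraMap_eq_inl])
  · rw [algebraMap_eps, ← Ideal.mem_span_singleton, mem_span_eps]
    rfl
  · rw [algebraMap_eps] at hx
    obtain ⟨h0, hx⟩ := hx
    have hz : (⟨(DualNumber.eps * x).fst, h0⟩ : I) = 0 := Subtype.ext (by simp)
    rw [hz, map_zero, Ideal.Quotient.eq_zero_iff_mem] at hx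
    simpa using hx

theorem exists_liftIdeal (I : Ideal R) (J : Ideal (DualNumber R))
    [Module.Flat (DualNumber A) (DualNumber R ⧸ J)] (hI : Ideal.map (fstHom A R R) J = I) :
    ∃ φ : I →ₗ[R] R ⧸ I, J = W4c6puncthilbintro.liftIdeal I φ := by
  haveI := tower A R
  have hfst : ∀ x ∈ J, x.fst ∈ I := fun x hx => hI.le (Ideal.mem_map_of_mem _ hx)
  have hmem : ∀ r ∈ I, ∃ x ∈ J, x.fst = r := fun r hr =>
    (Ideal.mem_map_iff_of_surjective (fstHom A R R) (fst_surjective A)).mp (hI.ge hr)
  have hzero : ∀ x ∈ J, x.fst = 0 → x.snd ∈ I := by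
    intro x hx h0
    obtain ⟨y, hy⟩ := exists_div_of_flat (B := DualNumber A) DualNumber.eps DualNumber.eps_mul_eps
      (fun b hb => Ideal.mem_span_singleton.mp (mem_span_eps.mpr (by
        have := congrArg TrivSqZeroExt.snd hb
        simpa using this))) J (inl x.snd) (by
      rw [algebraMap_eps]
      have : DualNumber.eps * inl x.snd = x := TrivSqZeroExt.ext (by simp [h0]) (by simp)
      rwa [this])
    rw [algebraMap_eps] at hy
    simpa using hfst _ hy
  have huniq : ∀ x ∈ J, ∀ y ∈ J, x.fst = y.fst → Ideal.Quotient.mk I x.snd = Ideal.Quotient.mk I y.snd := by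
    intro x hx y hy h
    rw [Ideal.Quotient.eq]
    have := hzero _ (J.sub_mem hx hy) (by simp [h])
    simpa using this
  choose s hs hsf using hmem
  let φ : I →ₗ[R] R ⧸ I :=
    { toFun := fun r => Ideal.Quotient.mk I (s r.1 r.2).snd
      map_add' := fun a b => by
        rw [← map_add, ← snd_add]
        exact huniq _ (hs _ _) _ (J.add_mem (hs _ _) (hs _ _)) (by rw [fst_add, hsf, hsf, hsf]; rfl)
      map_smul' := fun c a => by
        have h1 := huniq _ (hs _ (c • a).2) _ (J.mul_mem_left (inl c) (hs _ a.2))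
          (by rw [fst_mul, fst_inl, hsf, hsf]; rfl)
        rw [h1, RingHom.id_apply, Algebra.smul_def, Ideal.Quotient.algebraMap_eq, ← map_mul]
        congr 1
        simp }
  refine ⟨φ, SetLike.ext fun x => Iff.intro (fun hx => show ∃ h, _ from ⟨hfst x hx, huniq x hx _ (hs _ _) (hsf _ _).symm⟩) ?_⟩
  rintro ⟨hxI, hx⟩
  have h1 : x.snd - (s x.fst hxI).snd ∈ I := Ideal.Quotient.eq.mp hx
  obtain ⟨y, hy, hy'⟩ : ∃ y ∈ J, y.fst = x.snd - (s x.fst hxI).snd := ⟨s _ h1, hs _ _, hsf _ _⟩
  have : x = s x.fst hxI + DualNumber.eps * y := by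
    refine TrivSqZeroExt.ext ?_ ?_
    · simp [hsf]
    · simp [hy']
  rw [this]
  exact J.add_mem (hs _ _) (J.mul_mem_left _ hy)

end Groth.Agent.DualLift
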